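import Cfsg.Agent.T3.A
import Cfsg.Agent.H4.ZStar
import Cfsg.Agent.H9.Iso2
import Cfsg.Agent.H5.Zass

/-! A group of order three acting coprimely with abelian fixed points of odd order:
the group acted on is solvable. -/

set_option autoImplicit false
set_option linter.unusedSectionVars false

namespace CfH5.T3

open Cfsg CfH9 CfH7 CfH8 CfH1 CfFT Subgroup
open scoped commutatorElement IsMulCommutative

universe u

variable {G : Type u} [Group G] [Finite G] {H K L R S N F A B W D X : Subgroup G}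

theorem zstar_in (hS : SylIn 2 S K) {u : G} (hu : u ∈ Zc(S)) (h2 : u * u = 1)
    (hi : ∀ g ∈ K, g * u * g⁻¹ ∈ S → g * u * g⁻¹ = u) {g : G} (hg : g ∈ K) :
    ∃ m ∈ Op' 2 K, ∃ c ∈ Cx(u), g = m * c := by
  classical
  by_cases h1 : u = 1
  · exact ⟨1, one_mem _, g, by simp [h1, mem_Cx], (one_mul _).symm⟩
  have uK := hS.le hu.1
  have o2 : orderOf u = 2 := orderOf_eq_prime (by rw [pow_two, h2]) h1
  have z := CfH4.zstar K ⟨u, uK⟩ (by rw [← o2, ← orderOf_coe]) fun x hx => Subtype.ext (by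
    have hx' : u * (x * u * (x : G)⁻¹) = x * u * (x : G)⁻¹ * u := congrArg Subtype.val hx.eq
    obtain ⟨c, hc, e⟩ := (hS.mono (K := K ⊓ Cx(u)) (le_inf hS.le (le_Cx_iff.2 hu.2))
      inf_le_left).exists_conj_mem (x := x * u * (x : G)⁻¹)
      (mi (mul_mem (mul_mem x.2 uK) (inv_mem x.2)) (mem_Cx.2 hx'.symm)) (k := 1)
      (by rw [pow_one, conj_pow, pow_two, h2]; group)
    have e1 := hi (c * x) (mul_mem hc.1 x.2) (by convert e using 1; group)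
    have e2 := mem_Cx'.1 (inv_mem hc.2)
    change (x : G) * u * (x : G)⁻¹ = u
    calc _ = c⁻¹ * (c * x * u * (c * x)⁻¹) * c⁻¹⁻¹ := by group
    _ = u := by rw [e1, e2])
  rw [inZStar_subtype_iff] at z
  have n : zpowers u ≤ Nm(Op' 2 K) :=
    (zpowers_le.2 uK).trans (le_normalizer_pPrimeCoreOf K)
  have p2 : IsPGroup 2 (zpowers u) := isPGroup_zpowers_of_orderOf_prime o2
  rw [← Cz_zpowers]
  refine exists_mul_centralizer_of_commutator_mem n ((pp_Op' K).cop p2).symm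
    (.inl (sol_of_isPGroup p2)) fun a ha => ?_
  rcases (mem_zpowers_iff_mem_range_orderOf.1 ha |> Finset.mem_image.1) with ⟨i, hi, rfl⟩
  rw [o2, Finset.mem_range] at hi
  interval_cases i
  · simp
  · simpa [commutatorElement_def] using z g hg

theorem dih {a b : G} (ha : a * a = 1) (m : ℕ) :
    ∃ w ∈ zpowers (a * b), a * (a * b) ^ m = w * a * w⁻¹ ∨ a * (a * b) ^ m = w * b * w⁻¹ ∨
      b * b ≠ 1 := by
  by_cases hb : b * b = 1
  swap
  · exact ⟨1, one_mem _, .inr (.inr hb)⟩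
  set w := a * b with hw
  have a' : a⁻¹ = a := inv_eq_of_mul_eq_one_right ha
  have b' : b⁻¹ = b := inv_eq_of_mul_eq_one_right hb
  have k1 : ∀ j : ℕ, a * w ^ j = (w ^ j)⁻¹ * a := fun j => by
    have : a * w * a⁻¹ = w⁻¹ := by rw [hw, ← mul_assoc, ha, mul_inv_rev, a', b', one_mul]
    rw [← inv_pow, ← this, conj_pow]; group
  have ab : a * w = b := by rw [hw, ← mul_assoc, ha, one_mul]
  rcases Nat.even_or_odd' m with ⟨j, rfl | rfl⟩ <;>
    refine ⟨(w ^ j)⁻¹, inv_mem (pow_mem (mem_zpowers w) j), ?_⟩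
  · exact .inl (by rw [two_mul, pow_add, ← mul_assoc, k1, inv_inv])
  · refine .inr (.inl ?_)
    rw [inv_inv, ← ab, show 2 * j + 1 = j + (1 + j) by ring, pow_add, ← mul_assoc, k1, pow_add]
    group

/-- a minimal counterexample -/
structure Mn (H R S A : Subgroup G) : Prop where
  hy : Hy H R
  ab : Ab (H ⊓ Cz(R))
  nsol : ¬ Sol H
  loc : ∀ D, D ≤ H → D ≠ ⊥ → Sol D → R ≤ Nm(D) → Sol (H ⊓ Nm(D))
  syl : SylIn 2 S H
  nS : R ≤ Nm(S)
  le : A ≤ Zc(S)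
  eab : EAb 2 A
  ne : A ≠ ⊥
  nR : R ≤ Nm(A)
  nY : H ⊓ Nm(S) ⊓ Cz(R) ≤ Nm(A)
  min : ∀ B, B ≤ A → B ≠ ⊥ → R ≤ Nm(B) → H ⊓ Nm(S) ⊓ Cz(R) ≤ Nm(B) → B = A

namespace Mn

variable (h : Mn H R S A)
include h

theorem lS : A ≤ S := h.le.trans inf_le_left
theorem lH : A ≤ H := h.lS.trans h.syl.le
theorem cS : S ≤ Cz(A) := le_Cz_comm (h.le.trans inf_le_right)
theorem pA : IsPGroup 2 A := h.syl.pgrp.to_le h.lS
theorem sq {a : G} (ha : a ∈ A) : a * a = 1 := by rw [← pow_two]; exact h.eab.2 a ha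
theorem fS : S ⊓ Cz(R) = ⊥ := h.hy.fix h.syl.le h.syl.pgrp
theorem fA : A ⊓ Cz(R) = ⊥ := h.hy.fix h.lH h.pA

theorem loc2 (h1 : D ≤ S) (h2 : D ≠ ⊥) (h3 : R ≤ Nm(D)) : Sol (H ⊓ Nm(D)) :=
  h.loc D (h1.trans h.syl.le) h2 (sol_of_isPGroup (h.syl.pgrp.to_le h1)) h3

theorem not_le (h1 : D ≤ H) (h2 : D ≠ ⊥) (hs : Sol D) (h3 : R ≤ Nm(D)) : ¬ H ≤ Nm(D) := fun e =>
  h.nsol (CfH1.isSolvable_of_le (le_inf le_rfl e) (h.loc D h1 h2 hs h3))

theorem fratt (h1 : L ≤ H) (h2 : S ≤ L) (h3 : R ≤ Nm(L)) (hs : Sol L) :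
    Op' 2 L ⊔ (L ⊓ Nm(S)) = L := ((h.hy.sub h1 h3).pl1 hs).frattini (h.syl.mono h2 h1)

theorem nz {n : G} (hn : n ∈ H ⊓ Nm(S)) :
    ∃ y ∈ H ⊓ Nm(S) ⊓ Cz(R), ∀ z ∈ Zc(S), n * z * n⁻¹ = y * z * y⁻¹ := by
  set N := H ⊓ Nm(S)
  have hs : Sol N := h.loc2 le_rfl (ne_bot_of_le h.lS h.ne) h.nS
  have hy : Hy N R := h.hy.sub inf_le_left (nmI h.hy.nm (h.nS.trans (Nm_le_Nm_Nm S)))
  have sy : SylIn 2 S N := h.syl.mono (le_inf h.syl.le le_normalizer) inf_le_left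
  have c : Opp 2 N ≤ Cz(Zc(S)) := by
    rw [← (hy.pl1 hs).Opp_eq sy]
    refine sup_le (le_trans ?_ (Cz_anti inf_le_left)) (le_Cz_Zc S)
    exact (Op'_le_Cz_Op N).trans (Cz_anti (le_pCoreOf sy.le inf_le_right sy.pgrp))
  rw [← hy.sup_eq hs, mem_sup_of_le_Nm' (inf_le_left.trans (le_Nm_Opp N))] at hn
  obtain ⟨o, ho, y, hy', rfl⟩ := hn
  refine ⟨y, hy', fun z hz => ?_⟩
  have := conj_eq_of_mem_centralizer (c ho)
    (conj_mem_of_mem_normalizer (Nm_le_Nm_Zc S hy'.1.2) hz)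
  rw [← this]; group

theorem nN : H ⊓ Nm(S) ≤ Nm(A) := fun n hn => by
  obtain ⟨y, hy, e⟩ := h.nz hn
  exact mem_normalizer_of_conj_mem fun a ha => by
    rw [e a (h.le ha)]; exact conj_mem_of_mem_normalizer (h.nY hy) ha

/-- weak closure -/
theorem wc {g : G} (hg : g ∈ H) (e : cj g A ≤ S) : cj g A = A := by
  by_contra hne
  obtain ⟨D, ⟨g, hg, e, hne, rfl⟩, mx⟩ := exists_max_card
    (fun D => ∃ g ∈ H, cj g A ≤ S ∧ cj g A ≠ A ∧ D = S ⊓ Cz(cj g A)) ⟨_, g, hg, e, hne, rfl⟩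
  have p2 := h.syl.pgrp
  obtain ⟨c, hc, l1⟩ := ((h.syl.cj_of_mem hg).mono (K := H ⊓ Cz(cj g A))
    (le_inf (h.syl.cj_of_mem hg).le (cj_centralizer g A ▸ cj_mono g h.cS)) inf_le_left).exists_le_cj
    (Q := S ⊓ Cz(cj g A)) (p2.to_le inf_le_left) (inf_le_inf_right _ h.syl.le)
  have e1 : cj (c * g) A = cj g A := by rw [cj_mul, cj_eq_of_mem_centralizer hc.2]
  rw [← cj_mul] at l1
  rw [← e1] at e hne mx l1
  have hg := mul_mem hc.1 hg
  generalize c * g = g at *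
  set D := S ⊓ Cz(cj g A) with hD
  have aD : A ≤ D := le_inf h.lS ((h.le.trans inf_le_right).trans (Cz_anti e))
  have l2 : D ≤ cj g S ⊓ Cz(A) := le_inf l1 (inf_le_left.trans h.cS)
  have e2 : D = cj g S ⊓ Cz(A) := eq_of_le_of_card_ge l2 (by
    have := mx _ ⟨g⁻¹, inv_mem hg, le_cj_iff.1 (aD.trans l1), fun k => hne (by
      rw [← k, cj_cj_inv, k]), rfl⟩
    rwa [← card_cj g, cj_inf, cj_centralizer, cj_cj_inv] at this)
  have dS := der_le_Cz h.nS h.hy.card h.fS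
  have n1 : S ≤ Nm(D) :=
    le_Nm_of_der_le (le_inf (der_le S) (dS.trans (Cz_anti e))) inf_le_left
  have n2 : cj g S ≤ Nm(D) := by
    refine le_Nm_of_der_le (e2 ▸ le_inf (der_le _) (le_trans ?_ (Cz_anti (aD.trans l1)))) l1
    rw [← cj_commutator, ← cj_centralizer]; exact cj_mono g dS
  have n3 : R ≤ Nm(D) := nm_Cz h.nS h.hy.card h.fS e
  set L := H ⊓ Nm(D)
  have sL : S ≤ L := le_inf h.syl.le n1
  have fr := h.fratt (L := L) inf_le_left sL (nmI h.hy.nm (n3.trans (Nm_le_Nm_Nm D)))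
    (h.loc2 inf_le_left (ne_bot_of_le aD h.ne) n3)
  obtain ⟨l, hl, e3⟩ := (h.syl.mono sL inf_le_left).conj
    ((h.syl.cj_of_mem hg).mono (le_inf (h.syl.cj_of_mem hg).le n2) inf_le_left)
  rw [← fr, mem_sup_of_le_Nm' (inf_le_left.trans (le_normalizer_pPrimeCoreOf L))] at hl
  obtain ⟨o, ho, n, hn, rfl⟩ := hl
  rw [cj_mul, cj_eq_of_mem_normalizer hn.2] at e3
  have oH : o ∈ H := (pPrimeCoreOf_le L ho).1
  have k1 : o⁻¹ * g ∈ Nm(A) := h.nN (mi (mul_mem (inv_mem oH) hg) (by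
    rw [mem_normalizer_iff_cj, cj_mul, ← e3, cj_inv_cj]))
  have k2 : o ∈ Cz(A) := Cz_anti (aD.trans (le_pCoreOf (inf_le_left.trans sL) inf_le_right
    (p2.to_le inf_le_left))) (Op'_le_Cz_Op L ho)
  apply hne
  rw [show g = o * (o⁻¹ * g) by group, cj_mul, cj_eq_of_mem_normalizer k1,
    cj_eq_of_mem_centralizer k2]

/-- strong closure -/
theorem sc {g a : G} (hg : g ∈ H) (ha : a ∈ A) (e : g * a * g⁻¹ ∈ S) : g * a * g⁻¹ ∈ A := by
  obtain ⟨c, hc, l1⟩ := ((h.syl.cj_of_mem hg).mono (K := H ⊓ Cx(g * a * g⁻¹))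
    (le_inf (h.syl.cj_of_mem hg).le (cj_Cx g a ▸ cj_mono g (h.cS.trans (Cz_le_Cx ha))))
    inf_le_left).exists_cj_le h.pA
    (le_inf h.lH ((h.le.trans inf_le_right).trans (Cz_le_Cx e)))
  rw [le_cj_iff, ← cj_mul] at l1
  have k := h.wc (mul_mem (inv_mem hg) hc.1) l1
  rw [← k, mem_cj] at ha
  convert ha using 1
  calc _ = c⁻¹ * (g * a * g⁻¹) * c⁻¹⁻¹ := (mem_Cx'.1 (inv_mem hc.2)).symm
  _ = _ := by group

theorem burn {g a u : G} (hg : g ∈ H) (ha : a ∈ A) (hu : u ∈ A) (e1 : g * a * g⁻¹ ∈ A)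
    (e2 : g * u * g⁻¹ ∈ A) :
    ∃ y ∈ H ⊓ Nm(S) ⊓ Cz(R), y * a * y⁻¹ = g * a * g⁻¹ ∧ y * u * y⁻¹ = g * u * g⁻¹ := by
  have c := fun {x : G} (hx : x ∈ A) => h.cS.trans (Cz_le_Cx hx)
  obtain ⟨c, hc, e⟩ := ((h.syl.cj_of_mem hg).mono (K := H ⊓ (Cx(g * a * g⁻¹) ⊓ Cx(g * u * g⁻¹)))
    (le_inf (h.syl.cj_of_mem hg).le (le_inf (cj_Cx g a ▸ cj_mono g (c ha))
      (cj_Cx g u ▸ cj_mono g (c hu)))) inf_le_left).conj
    (h.syl.mono (le_inf h.syl.le (le_inf (c e1) (c e2))) inf_le_left)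
  obtain ⟨y, hy, k⟩ := h.nz (n := c * g) (mi (mul_mem hc.1 hg)
    (by rw [mem_normalizer_iff_cj, cj_mul, e]))
  refine ⟨y, hy, ?_, ?_⟩
  · rw [← k a (h.le ha), ← mem_Cx'.1 hc.2.1]; group
  · rw [← k u (h.le hu), ← mem_Cx'.1 hc.2.2]; group

theorem big : 4 < Nat.card A := by
  by_contra hc
  obtain ⟨n, hE⟩ := exists_el_of_eab h.eab le_rfl
  have hn : n ≤ 2 := by
    by_contra k
    have : 2 ^ 3 ≤ 2 ^ n := Nat.pow_le_pow_right two_pos (by omega)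
    rw [← hE.card] at this; omega
  have d1 := relIndex_Cz_dvd_GL hE h.nY
  have d2 : (Cz(A)).relIndex (H ⊓ Nm(S) ⊓ Cz(R)) ∣ 2 * 3 := by
    interval_cases n <;> exact d1.trans (by decide)
  have l : H ⊓ Nm(S) ⊓ Cz(R) ≤ H ⊓ Cz(R) := inf_le_inf_right _ inf_le_left
  have cY : H ⊓ Nm(S) ⊓ Cz(R) ≤ Cz(A) := relIndex_eq_one.1 (Nat.eq_one_of_dvd_coprimes
    (Nat.Coprime.mul_right (pp2 (h.hy.odd.of_le l)) (h.hy.p3.of_le (l.trans inf_le_left)))
      (relIndex_dvd_card _ _) d2)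
  obtain ⟨a, ha, a1⟩ := exists_ne_one_of_ne_bot h.ne
  have o : Op' 2 H = ⊥ := by
    by_contra k
    exact h.not_le (pPrimeCoreOf_le H) k (solvable_of_odd (odd2 (pp_Op' H)))
      (h.hy.nm.trans (normalizer_le_normalizer_pPrimeCoreOf H)) (le_normalizer_pPrimeCoreOf H)
  refine h.not_le (D := A ⊓ Cz(H)) (inf_le_left.trans h.lH) (ne_bot_of_mem (mi ha ?_) a1)
    (sol_of_isPGroup (h.pA.to_le inf_le_left)) (nmI h.nR (h.hy.nm.trans (Nm_le_Nm_Cz H)))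
    ((le_Cz_comm inf_le_right).trans (Cz_le_Nm _))
  refine le_Cx_iff.1 fun g hg => ?_
  obtain ⟨m, hm, c, hc, rfl⟩ := zstar_in h.syl (h.le ha) (h.sq ha) (fun g hg e => by
    obtain ⟨y, hy, k, -⟩ := h.burn hg ha ha (h.sc hg ha e) (h.sc hg ha e)
    rw [← k, conj_eq_of_mem_centralizer (cY hy) ha]) hg
  rw [o, mem_bot] at hm
  rwa [hm, one_mul]

/-- odd subgroups normalised by `A` centralise it -/
theorem odd_cent (h1 : X ≤ H) (ho : OddS X) (hn : A ≤ Nm(X)) : X ≤ Cz(A) := by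
  have cX : Cop A X := ((pp2 ho).cop h.pA).symm
  refine le_of_cocyclic h.eab.1 hn cX fun B hB ⟨a, ha, hc⟩ => ?_
  obtain ⟨r, hr, r1⟩ := exists_ne_one_of_ne_bot (A := R) fun e => by simpa [e] using h.hy.card
  have nr := h.nR hr
  have i2 : B.relIndex A ≤ 2 := by
    have nB : A ≤ Nm(B) := le_Nm_of_ab h.eab.1 hB
    rw [← card_qb nB]
    refine (card_le_of_le (qb_mono hc)).trans ?_
    rw [sup_comm, qb_sup_self ((zpowers_le.2 ha).trans nB)]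
    refine (Nat.le_of_dvd Nat.card_pos (card_qb_dvd ((zpowers_le.2 ha).trans nB))).trans ?_
    rw [Nat.card_zpowers]
    exact Nat.le_of_dvd two_pos (orderOf_dvd_of_pow_eq_one (h.eab.2 a ha))
  set E := B ⊓ cj r B with hE
  have E0 : E ≠ ⊥ := fun e => by
    have k := relIndex_inf_le (H := B) (K := cj r B) (L := A)
    rw [← hE, e, relIndex_bot_left, ← cj_eq_of_mem_normalizer nr, relIndex_cj, card_cj,
      cj_eq_of_mem_normalizer nr] at k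
    have := h.big
    have := Nat.mul_le_mul i2 i2
    omega
  have nE : R ≤ Nm(E) := by
    rw [← zpowers_eq_of_card_prime h.hy.card hr r1, zpowers_le]
    refine mem_normalizer_of_conj_mem fun x hx => mi ?_ (conj_mem_cj r hx.1)
    obtain ⟨y, hy, rfl⟩ := mem_cj'.1 hx.2
    rw [eq_inv_of_mul_eq_one_right (norm_eq h.nS h.hy.card h.fS hr r1 (h.lS (hB hy)))]
    exact inv_mem (mul_mem hy hx.1)
  have EA : E ≤ A := inf_le_left.trans hB
  set L := H ⊓ Cz(E)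
  have nL : R ≤ Nm(L) := nmI h.hy.nm (nE.trans (Nm_le_Nm_Cz E))
  have sL : Sol L := CfH1.isSolvable_of_le (inf_le_inf_left _ (Cz_le_Nm E))
    (h.loc2 (EA.trans h.lS) E0 nE)
  have SL : S ≤ L := le_inf h.syl.le (h.cS.trans (Cz_anti EA))
  have AL := h.lS.trans SL
  have lW := pPrimeCoreOf_le (p := 2) L
  have cW : Op' 2 L ≤ Cz(A) := by
    refine le_Cz_of_frob h.pA h.hy.card h.nR h.fA (AL.trans (le_normalizer_pPrimeCoreOf L))
      (nL.trans (normalizer_le_normalizer_pPrimeCoreOf L)) (odd2 (pp_Op' L))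
      (h.hy.p3.of_le (lW.trans inf_le_left)) fun c hc => ?_
    have cH : c ∈ H ⊓ Cz(R) := mi (lW hc.1).1 hc.2
    have := h.min (A ⊓ Cz(zpowers c)) inf_le_left (ne_bot_of_le (le_inf EA
      (le_Cz_comm (zpowers_le.2 (lW hc.1).2))) E0)
      (nmI h.nR (((le_Cz_comm (zpowers_le.2 hc.2)).trans (Cz_le_Nm _)).trans (Nm_le_Nm_Cz _)))
      (nmI h.nY (((le_Cz_of_ab h.ab (inf_le_inf_right _ inf_le_left) (zpowers_le.2 cH)).trans
        (Cz_le_Nm _)).trans (Nm_le_Nm_Cz _)))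
    exact le_Cz_comm (this.ge.trans inf_le_right) (mem_zpowers c)
  have l0 : X ⊓ Cz(B) ≤ L := inf_le_inf h1 (Cz_anti inf_le_left)
  have n0 : A ≤ Nm(X ⊓ Cz(B)) := nmI hn ((le_Nm_of_ab h.eab.1 hB).trans (Nm_le_Nm_Cz B))
  refine comm_eq_bot_left.1 (commutator_eq_bot_of_le_of_eq_bot n0 (cX.mono le_rfl inf_le_left)
    (.inl (sol_of_isPGroup h.pA)) ?_ (comm_eq_bot_left.2 cW))
  refine ((pp2 ho).of_le ((comm_le_left n0).trans inf_le_left)).le_Op'_of_le_Opp ?_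
  exact (commutator_mono le_rfl ((h.hy.sub inf_le_left nL).pl1 sL A AL h.pA)).trans
    (comm_le_right (l0.trans (le_Nm_Opp L)))

theorem Cx_le {a : G} (ha : a ∈ A) (a1 : a ≠ 1) : H ⊓ Cx(a) ≤ Nm(A) := fun g hg => by
  obtain ⟨r, hr, r1⟩ := exists_ne_one_of_ne_bot (A := R) fun e => by simpa [e] using h.hy.card
  have hu := conj_mem_of_mem_normalizer (h.nR hr) ha
  have SK : S ≤ H ⊓ Cx(a) := le_inf h.syl.le (h.cS.trans (Cz_le_Cx ha))
  obtain ⟨m, hm, c, hc, e⟩ := zstar_in (h.syl.mono SK inf_le_left) (h.le hu) (h.sq hu)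
    (fun g hg e => by
      have ea := mem_Cx'.1 hg.2
      obtain ⟨y, hy, k1, k2⟩ := h.burn hg.1 ha hu (ea.symm ▸ ha) (h.sc hg.1 hu e)
      rw [← k2, ← conj_mul, ← conj_mul, conj_eq_of_mem_centralizer hy.2 hr,
        conj_eq_of_mem_centralizer hy.2 (inv_mem hr), k1, ea]) hg
  have lO := pPrimeCoreOf_le (p := 2) (H ⊓ Cx(a))
  have k : ∀ L, L ≤ H → S ≤ L → Op' 2 L ≤ Nm(A) := fun L l1 l2 =>
    (h.odd_cent ((pPrimeCoreOf_le L).trans l1) (odd2 (pp_Op' L))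
      ((h.lS.trans l2).trans (le_normalizer_pPrimeCoreOf L))).trans (Cz_le_Nm A)
  have cK : c ∈ H ⊓ Cx(a) := by
    rw [show c = m⁻¹ * g by rw [e]; group]; exact mul_mem (inv_mem (lO hm)) hg
  rw [e]
  refine mul_mem (k _ inf_le_left SK hm) ?_
  set L := H ⊓ Cx(a) ⊓ Cx(r * a * r⁻¹)
  have nL : R ≤ Nm(L) := by
    rw [← zpowers_eq_of_card_prime h.hy.card hr r1, zpowers_le]
    refine mem_normalizer_of_conj_mem fun x hx => ?_
    have k1 : r * x * r⁻¹ ∈ Cx(r * a * r⁻¹) := cj_Cx r a ▸ conj_mem_cj r hx.1.2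
    have k2 : r * x * r⁻¹ ∈ Cx(r * (r * a * r⁻¹) * r⁻¹) := cj_Cx r _ ▸ conj_mem_cj r hx.2
    refine mi (mi (conj_mem_of_mem_normalizer (h.hy.nm hr) hx.1.1) (mem_Cx_comm ?_)) k1
    have := norm_eq h.nS h.hy.card h.fS hr r1 (h.lS ha)
    rw [mul_assoc] at this
    rw [eq_inv_of_mul_eq_one_left this]
    exact inv_mem (mul_mem (mem_Cx_comm k1) (mem_Cx_comm k2))
  have SL : S ≤ L := le_inf SK (h.cS.trans (Cz_le_Cx hu))
  have lL : L ≤ H := inf_le_left.trans inf_le_left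
  have sL : Sol L := CfH1.isSolvable_of_le
    (le_inf lL ((le_Cz_comm inf_le_right).trans (Cz_le_Nm _)))
    (h.loc2 (D := A ⊓ Cz(L)) (inf_le_left.trans h.lS)
      (ne_bot_of_mem (mi ha (le_Cx_iff.1 (inf_le_left.trans inf_le_right))) a1)
      (nmI h.nR (nL.trans (Nm_le_Nm_Cz L))))
  exact ((h.fratt lL SL nL sL).ge.trans (sup_le (k L lL SL)
    ((inf_le_inf_right _ lL).trans h.nN))) (mi cK hc)

theorem mem_of {a z w x : G} (ha : a ∈ A) (a1 : a ≠ 1) (hz : z ∈ H) (z2 : z * z = 1) (hw : w ∈ H)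
    (hx : x ∈ A) (e : a * z = w * x * w⁻¹) : z ∈ A := by
  have s2 : a * z * (a * z) = 1 := by rw [e, conj_mul, h.sq hx]; group
  have c : a * z ∈ Cx(a) := by
    rw [mem_Cx, mul_assoc, mul_right_inj, eq_inv_of_mul_eq_one_left s2, mul_inv_rev,
      inv_eq_of_mul_eq_one_right z2, inv_eq_of_mul_eq_one_right (h.sq ha)]
  have m := mul_mem (h.lH ha) hz
  obtain ⟨n, hn, k⟩ := (h.syl.mono (K := H ⊓ Nm(A)) (le_inf h.syl.le (h.cS.trans (Cz_le_Nm A)))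
    inf_le_left).exists_conj_mem (mi m (h.Cx_le ha a1 (mi m c))) (k := 1) (by rw [pow_one, pow_two, s2])
  have k' := h.sc (mul_mem hn.1 hw) hx (by convert k using 1; rw [e]; group)
  have : a * z ∈ A := by
    convert conj_mem_of_mem_normalizer' hn.2 k' using 1; rw [e]; group
  simpa using mul_mem (inv_mem ha) this

theorem odd_mul {a a' g : G} (ha : a ∈ A) (a1 : a ≠ 1) (ha' : a' ∈ A) (a1' : a' ≠ 1) (hg : g ∈ H)
    (hn : g ∉ Nm(A)) : Odd (orderOf (a * (g * a' * g⁻¹))) := by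
  by_contra hc
  obtain ⟨m, hm⟩ := Nat.not_odd_iff_even.1 hc
  set b := g * a' * g⁻¹ with hb
  have b2 : b * b = 1 := by rw [hb, conj_mul, h.sq ha']; group
  have bH : b ∈ H := mul_mem (mul_mem hg (h.lH ha')) (inv_mem hg)
  have wH : a * b ∈ H := mul_mem (h.lH ha) bH
  have zz : (a * b) ^ m * (a * b) ^ m = 1 := by rw [← pow_add, ← hm, pow_orderOf_eq_one]
  have z1 : (a * b) ^ m ≠ 1 := by
    have := orderOf_pos (a * b)
    exact pow_ne_one_of_lt_orderOf (by omega) (by omega)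
  have ze : (b * a) ^ m = (a * b) ^ m := by
    rw [← inv_eq_of_mul_eq_one_right zz, ← inv_pow, mul_inv_rev, inv_eq_of_mul_eq_one_right b2,
      inv_eq_of_mul_eq_one_right (h.sq ha)]
  have zH := pow_mem wH m
  have k1 : (a * b) ^ m ∈ A := by
    obtain ⟨w, hw, e | e | e⟩ := dih (b := b) (h.sq ha) m
    · exact h.mem_of ha a1 zH zz (zpowers_le.2 wH hw) ha e
    · exact h.mem_of ha a1 zH zz (mul_mem (zpowers_le.2 wH hw) hg) ha' (by rw [e, hb]; group)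
    · exact (e b2).elim
  have k2 : g⁻¹ * (a * b) ^ m * g ∈ A := by
    have z' : g⁻¹ * (a * b) ^ m * g * (g⁻¹ * (a * b) ^ m * g) = 1 := by
      calc _ = g⁻¹ * ((a * b) ^ m * (a * b) ^ m) * g := by group
      _ = 1 := by rw [zz]; group
    have zH' := mul_mem (mul_mem (inv_mem hg) zH) hg
    have e0 : a' * (g⁻¹ * (a * b) ^ m * g) = g⁻¹ * (b * (b * a) ^ m) * g := by
      rw [ze, show a' = g⁻¹ * b * g by rw [hb]; group]; group
    obtain ⟨w, hw, e | e | e⟩ := dih (b := a) b2 m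
    · have wH := zpowers_le.2 (mul_mem bH (h.lH ha)) hw
      exact h.mem_of ha' a1' zH' z' (mul_mem (mul_mem (inv_mem hg) wH) hg) ha'
        (by rw [e0, e, hb]; group)
    · have wH := zpowers_le.2 (mul_mem bH (h.lH ha)) hw
      exact h.mem_of ha' a1' zH' z' (mul_mem (inv_mem hg) wH) ha (by rw [e0, e]; group)
    · exact (e (h.sq ha)).elim
  set x := g⁻¹ * (a * b) ^ m * g with hx
  have ex : g * x * g⁻¹ = (a * b) ^ m := by rw [hx]; group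
  obtain ⟨y, hy, k, -⟩ := h.burn hg k2 k2 (ex ▸ k1) (ex ▸ k1)
  have := h.Cx_le k2 (fun e => z1 (by rw [← ex, e]; group)) (x := y⁻¹ * g)
    (mi (mul_mem (inv_mem hy.1.1) hg) (mem_Cx'.2 (by
      calc _ = y⁻¹ * (g * x * g⁻¹) * y := by group
      _ = x := by rw [← k]; group)))
  exact hn (by simpa using mul_mem (h.nY hy) this)

theorem false : False := by
  obtain ⟨r, hr, r1⟩ := exists_ne_one_of_ne_bot (A := R) fun e => by simpa [e] using h.hy.card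
  obtain ⟨a, ha, a1⟩ := exists_ne_one_of_ne_bot h.ne
  obtain ⟨g, hg, hn⟩ := SetLike.not_le_iff_exists.1
    (h.not_le h.lH h.ne (sol_of_isPGroup h.pA) h.nR)
  have hu := conj_mem_of_mem_normalizer (h.nR hr) ha
  have u1 : r * a * r⁻¹ ≠ 1 := by simpa using a1
  have bH : g * a * g⁻¹ ∈ H := mul_mem (mul_mem hg (h.lH ha)) (inv_mem hg)
  have b2 : (g * a * g⁻¹) ^ 2 = 1 := by rw [conj_pow, h.eab.2 a ha]; group
  obtain ⟨s, hs, e1⟩ := CfH5.conj_of_odd_mul (h.eab.2 a ha) b2 (h.odd_mul ha a1 ha a1 hg hn)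
  obtain ⟨t, ht, e2⟩ := CfH5.conj_of_odd_mul (h.eab.2 _ hu) b2 (h.odd_mul hu u1 ha a1 hg hn)
  have sH := zpowers_le.2 (mul_mem (h.lH ha) bH) hs
  have tH := zpowers_le.2 (mul_mem (h.lH hu) bH) ht
  have e3 : t * s⁻¹ * a * (t * s⁻¹)⁻¹ = r * a * r⁻¹ := by
    calc _ = t * (s⁻¹ * a * s) * t⁻¹ := by group
    _ = _ := by rw [e1, ← e2]; group
  obtain ⟨y, hy, k, -⟩ := h.burn (mul_mem tH (inv_mem sH)) ha ha (e3 ▸ hu) (e3 ▸ hu)
  rw [e3] at k
  have c : y * r = r * y := (hy.2 r hr).symm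
  have r3 : r ^ 3 = 1 := h.hy.card ▸ pow_card_eq_one_of_mem hr
  have c1 : r⁻¹ * y ∈ Cx(a) := mem_Cx'.2 (by
    calc _ = r⁻¹ * (y * a * y⁻¹) * r := by group
    _ = a := by rw [k]; group)
  have c2 := pow_mem c1 (orderOf y)
  rw [(Commute.inv_left (Commute.symm c)).mul_pow, pow_orderOf_eq_one, mul_one, inv_pow,
    inv_mem_iff] at c2
  have c3 : r ∈ Cx(a) := by
    have cp : (orderOf y).Coprime (orderOf r) := by
      rw [orderOf_eq_prime r3 r1]; exact coprime_orderOf_of_mem h.hy.p3 hy.1.1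
    obtain ⟨i, hi⟩ := exists_pow_eq_self_of_coprime cp
    rw [← hi]; exact pow_mem c2 i
  have : a ∈ A ⊓ Cz(R) := mi ha (by
    rw [← zpowers_eq_of_card_prime h.hy.card hr r1, Cz_zpowers]; exact mem_Cx_comm c3)
  rw [h.fA] at this
  exact a1 this

end Mn

theorem sol_aux (k : ℕ) : ∀ {G : Type u} [Group G] [Finite G] {H R : Subgroup G}, Nat.card H = k →
    Hy H R → Ab (H ⊓ Cz(R)) → Sol H := by
  induction k using Nat.strong_induction_on with | _ k ih => ?_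
  intro G _ _ H R hk h hab
  by_contra hs
  have loc : ∀ D, D ≤ H → D ≠ ⊥ → Sol D → R ≤ Nm(D) → Sol (H ⊓ Nm(D)) := fun D h1 h2 h3 h4 => by
    by_cases e : H ≤ Nm(D)
    · exact (hs (sol_of_qb e h3 (ih _ (hk ▸ card_qb_lt e h1 h2) rfl (h.qb h1 e h4)
        (h.qb_Cz h1 e h4 ▸ ab_qb hab)))).elim
    · exact ih _ (hk ▸ CfH9.card_lt_of_lt (lt_of_le_of_ne inf_le_left fun k => e (inf_eq_left.1 k)))
        rfl (h.sub inf_le_left (nmI h.nm (h4.trans (Nm_le_Nm_Nm D))))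
        (comm_of_le (inf_le_inf_right _ inf_le_left) hab)
  obtain ⟨S, hS, nS⟩ := exists_invariant_sylIn 2 h.nm (h.cop le_rfl) (.inl (sol3 h.card))
  have S0 : S ≠ ⊥ := fun e => hs (solvable_of_odd (odd2 (pp_of_not_dvd (hS.eq_bot_iff.1 e))))
  obtain ⟨A, -, ⟨a1, a2, a3, a4⟩, mn⟩ := exists_min_sub
    (fun A => A ≤ OZ 2 S ∧ A ≠ ⊥ ∧ R ≤ Nm(A) ∧ H ⊓ Nm(S) ⊓ Cz(R) ≤ Nm(A))
    ⟨le_rfl, OZ_ne_bot hS.pgrp S0, nS.trans (Nm_le_Nm_OZ S),
      (inf_le_left.trans inf_le_right).trans (Nm_le_Nm_OZ S)⟩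
  exact Mn.false ⟨h, hab, hs, loc, hS, nS, le_inf (a1.trans (OZ_le S)) (a1.trans (OZ_le_Cz S)),
    elemAb_of_le a1 (elemAb_OZ S), a2, a3, a4, fun B b1 b2 b3 b4 => mn B ⟨b1.trans a1, b2, b3, b4⟩ b1⟩

theorem Hy.sol (h : Hy H R) (hab : Ab (H ⊓ Cz(R))) : Sol H := sol_aux _ rfl h hab

end CfH5.T3
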