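import Cfsg.Agent.FT.Final
import Cfsg.Agent.H2.Fpf3

/-! A group of order three acting coprimely with fixed points of odd order: the solvable case. -/

set_option autoImplicit false
set_option linter.unusedSectionVars false

namespace CfH5.T3

open Cfsg CfH9 CfH7 CfH8 CfH1 CfFT Subgroup
open scoped commutatorElement IsMulCommutative

universe u

variable {G : Type u} [Group G] [Finite G] {H K R S N F A W D : Subgroup G}

instance : Fact (Nat.Prime 3) := ⟨Nat.prime_three⟩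

/-- `R` of order three acts on the `3'`-group `H` with fixed points of odd order -/
structure Hy (H R : Subgroup G) : Prop where
  nm : R ≤ Nm(H)
  card : Nat.card R = 3
  p3 : Pp 3 H
  odd : OddS (H ⊓ Cz(R))

theorem nmI {X A B : Subgroup G} (h1 : X ≤ Nm(A)) (h2 : X ≤ Nm(B)) : X ≤ Nm(A ⊓ B) :=
  fun _ h => mem_Nm_inf (h1 h) (h2 h)

theorem nmS {X A B : Subgroup G} (h1 : X ≤ Nm(A)) (h2 : X ≤ Nm(B)) : X ≤ Nm(A ⊔ B) :=
  fun _ h => mem_Nm_sup (h1 h) (h2 h)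

theorem pp2 (h : OddS H) : Pp 2 H := Nat.coprime_two_right.2 h

theorem odd2 (h : Pp 2 H) : OddS H := Nat.coprime_two_right.1 h

theorem cop3 (hR : Nat.card R = 3) (h : Pp 3 H) : Cop R H := by
  change Nat.Coprime _ _
  rw [hR]; exact h.symm

theorem sol3 (hR : Nat.card R = 3) : Sol R :=
  (cyc_of_card_prime Nat.prime_three hR).ab.nil.sol

theorem Hy.cop (h : Hy H R) (hK : K ≤ H) : Cop R K := cop3 h.card (h.p3.of_le hK)

theorem Hy.sub (h : Hy H R) (hK : K ≤ H) (hn : R ≤ Nm(K)) : Hy K R :=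
  ⟨hn, h.card, h.p3.of_le hK, h.odd.of_le (inf_le_inf_right _ hK)⟩

theorem Hy.qb_Cz (h : Hy H R) (h1 : N ≤ H) (h2 : H ≤ Nm(N)) (h3 : R ≤ Nm(N)) :
    qb N (H ⊓ Cz(R)) = qb N H ⊓ Cz(qb N R) :=
  CfFT.qb_Cz h2 h3 h.nm (h.cop inf_le_left) (.inl (sol3 h.card))

theorem Hy.qb (h : Hy H R) (h1 : N ≤ H) (h2 : H ≤ Nm(N)) (h3 : R ≤ Nm(N)) :
    Hy (qb N H) (qb N R) :=
  ⟨qb_le_Nm h.nm, by rw [card_qb_of_inf h3 (h.cop h1).inf_eq_bot, h.card], h.p3.qb,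
    h.qb_Cz h1 h2 h3 ▸ h.odd.qb (inf_le_left.trans h2)⟩

theorem Hy.fix (h : Hy H R) (hS : S ≤ H) (h2 : IsPGroup 2 S) : S ⊓ Cz(R) = ⊥ :=
  eq_bot_of_not_dvd (h2.to_le inf_le_left) (inf_le_inf_right _ hS) (pp2 h.odd).not_dvd

theorem comm_cent (hF : IsPGroup 2 F) (h1 : K ≤ Nm(F)) (h2 : R ≤ Nm(F)) (h : Hy K R)
    (ho : OddS K) (h0 : F ⊓ Cz(R) = ⊥) : ⁅K, R⁆ ≤ Cz(F) := by
  have oR : OddS R := by change Odd _; rw [h.card]; decide
  have nL : K ⊔ R ≤ Nm(F) := sup_le h1 h2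
  have nP := nL.trans (Nm_le_Nm_Phi F)
  have pL : Pp 2 (K ⊔ R) := by
    rw [sup_comm]; exact (pp2 oR).sup (pp2 ho) h.nm
  have cKR : Cop K R := (h.cop le_rfl).symm
  have sd : SD K R (K ⊔ R) := ⟨rfl, h.nm, cKR.inf_eq_bot⟩
  have cR : Cop R F := (pp2 oR).cop hF
  have e : Nat.card (CfH8.qb (Phi F) R) = 3 := by
    rw [card_qb_of_inf (le_sup_right.trans nP) (cR.mono le_rfl (Phi_le F)).inf_eq_bot, h.card]
  have k := odd_prime_sdprod_cent1 (p := 2) (odd2 pL.qb) (sd.qb_cop cKR nP) cKR.qb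
    (e ▸ Nat.prime_three) (elemAb_qb_Phi hF) (qb_le_Nm nL) pL.qb (by
      rw [← CfFT.qb_Cz (le_Nm_Phi F) (le_sup_right.trans nP) h2 (cR.mono le_rfl inf_le_left)
        (.inl (sol3 h.card)), h0]
      exact (qb_eq_bot_iff bot_le).2 bot_le)
  have cl : ⁅K, R⁆ ≤ K := comm_le_left h.nm
  rw [← qb_commutator (le_sup_left.trans nP) (le_sup_right.trans nP),
    qb_le_Cz_iff (cl.trans (le_sup_left.trans nP)) (le_Nm_Phi F), commutator_comm] at k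
  exact le_Cz_of_comm_le_Phi hF (cl.trans h1) ((pp2 ho).of_le cl) k

theorem Hy.comm_le_Op (h : Hy H R) (hs : Sol H) (h0 : Op' 2 H = ⊥) : ⁅H, R⁆ ≤ Op 2 H := by
  set F := Op 2 H with hF
  have l1 : F ≤ H := pCoreOf_le H
  have n1 : H ≤ Nm(F) := le_normalizer_pCoreOf H
  have n2 : R ≤ Nm(F) := h.nm.trans (normalizer_le_normalizer_pCoreOf H)
  have pF : IsPGroup 2 F := isPGroup_pCoreOf H
  have hq := h.qb l1 n1 n2
  have cF : H ⊓ Cz(F) ≤ F := by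
    have := cent_Fit_le hs
    rwa [Fit_eq_Op h0] at this
  set X := Fit (CfH8.qb F H) with hX
  have pX : Pp 2 X := pp_Fit (pCoreOf_qb_pCoreOf H)
  have lX : X ≤ CfH8.qb F H := fittingOf_le _
  have lK : qp F X ≤ H := (qp_le_iff n1 l1).2 lX
  have nK : R ≤ Nm(qp F X) :=
    le_Nm_qp n2 (hq.nm.trans (normalizer_le_normalizer_fittingOf _))
  obtain ⟨K, hK, nRK⟩ := coprime_hall_exists {2}ᶜ nK (h.cop lK) (isSolvable_of_le lK hs)
  have oK : Pp 2 K := pi_compl_iff.1 hK.pi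
  have lKH := hK.le.trans lK
  have c1 : ⁅K, R⁆ ≤ F := (le_inf ((comm_le_left nRK).trans lKH)
    (comm_cent pF (lKH.trans n1) n2 (h.sub lKH nRK) (odd2 oK) (h.fix l1 pF))).trans cF
  have e : CfH8.qb F K = X := by
    have := hK.qb (N := F) (qp_le X)
    rw [qb_qp] at this
    exact this.eq_of_pi (pi_compl_iff.2 pX)
  have c2 : CfH8.qb F R ≤ Cz(X) := by
    rw [← e, qb_le_Cz_iff n2 (lKH.trans n1), commutator_comm]; exact c1
  have c3 := (le_inf le_rfl c2).trans (coprime_cent_Fit hq.nm (hq.cop le_rfl) (sol_qb hs))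
  rwa [qb_le_Cz_iff n2 n1, commutator_comm] at c3

theorem Hy.comm_le_Opp (h : Hy H R) (hs : Sol H) : ⁅H, R⁆ ≤ Opp 2 H := by
  have n1 : H ≤ Nm(Op' 2 H) := le_normalizer_pPrimeCoreOf H
  have n2 : R ≤ Nm(Op' 2 H) := h.nm.trans (normalizer_le_normalizer_pPrimeCoreOf H)
  rw [le_Opp_iff (comm_le_left h.nm), qb_commutator n1 n2]
  exact (h.qb (pPrimeCoreOf_le H) n1 n2).comm_le_Op (sol_qb hs) (Op'_qb_Op' H)

theorem Hy.sup_eq (h : Hy H R) (hs : Sol H) : Opp 2 H ⊔ (H ⊓ Cz(R)) = H :=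
  le_antisymm (sup_le (Opp_le H) inf_le_left)
    ((commutator_sup_centralizer_eq h.nm (h.cop le_rfl) (.inr hs)).ge.trans
      (sup_le_sup_right (h.comm_le_Opp hs) _))

theorem Hy.not_dvd (h : Hy H R) (hs : Sol H) : ¬ 2 ∣ (Opp 2 H).relIndex H := by
  have n : H ⊓ Cz(R) ≤ Nm(Opp 2 H) := inf_le_left.trans (le_Nm_Opp H)
  have e := card_qb (le_Nm_Opp (p := 2) H)
  rw [← e, ← congrArg (CfH8.qb (Opp 2 H)) (h.sup_eq hs), sup_comm, qb_sup_self n]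
  exact (pp2 (h.odd.qb n)).not_dvd

theorem Hy.pl1 (h : Hy H R) (hs : Sol H) : PL1 2 H :=
  pl1_of_normal (Opp_le H) (le_Nm_Opp H) (h.not_dvd hs) (pl1_of_pNil (pNil_Opp H))

theorem le_Cz_of_frob (hA : IsPGroup 2 A) (hR : Nat.card R = 3) (n1 : R ≤ Nm(A))
    (h0 : A ⊓ Cz(R) = ⊥) (n2 : A ≤ Nm(W)) (n3 : R ≤ Nm(W)) (ho : OddS W) (h3 : Pp 3 W)
    (hc : W ⊓ Cz(R) ≤ Cz(A)) : W ≤ Cz(A) := by
  by_cases hb : A = ⊥
  · rw [hb, CfFT.Cz_bot]; exact le_top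
  have c1 : Cop R A := cop3 hR (pp_of_isPGroup (by decide) hA)
  have fr := frob_of_prime (L := A ⊔ R) ⟨rfl, n1, Cop.inf_eq_bot c1.symm⟩ hb (hR ▸ Nat.prime_three) h0
  have cW : Cop W (A ⊔ R) := by
    have e := CfH9.card_sup_mul_card_inf n1
    rw [c1.inf_eq_bot, card_bot, mul_one, sup_comm] at e
    change Nat.Coprime _ _
    rw [e]
    exact (cop3 hR h3).symm.mul_right ((pp2 ho).cop hA)
  have k := fr.wielandt (sup_le n2 n3) cW (solvable_of_odd ho)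
  have e : W ⊓ Cz(A ⊔ R) = W ⊓ Cz(R) := by
    rw [Cz_sup]
    exact le_antisymm (inf_le_inf_left _ inf_le_right) (le_inf inf_le_left (le_inf hc inf_le_right))
  rw [e] at k
  have k' := Nat.eq_of_mul_eq_mul_left (pow_pos Nat.card_pos _) k
  exact (eq_of_le_of_card_ge inf_le_left k'.le).ge.trans inf_le_right

/-! ### the 2-subgroups -/

theorem isF (n : R ≤ Nm(S)) (hR : Nat.card R = 3) (h0 : S ⊓ Cz(R) = ⊥) {r : G} (hr : r ∈ R)
    (h1 : r ≠ 1) : CfH2.Fpf3.IsF (cjAct n ⟨r, hr⟩).toMonoidHom := by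
  have r3 : r ^ 3 = 1 := hR ▸ pow_card_eq_one_of_mem hr
  refine ⟨fun x => Subtype.ext ?_, fun x e => Subtype.ext ?_⟩
  · change r * (r * (r * x * r⁻¹) * r⁻¹) * r⁻¹ = x
    calc _ = r ^ 3 * x * (r ^ 3)⁻¹ := by simp only [pow_succ, pow_zero]; group
    _ = x := by rw [r3]; group
  · have e' : r * x * r⁻¹ = x := congrArg Subtype.val e
    have : (x : G) ∈ S ⊓ Cz(R) := mi x.2 (by
      rw [← zpowers_eq_of_card_prime hR hr h1, Cz_zpowers]; exact mem_Cx_comm (mem_Cx'.2 e'))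
    rw [h0] at this
    exact this

section two
variable (n : R ≤ Nm(S)) (hR : Nat.card R = 3) (h0 : S ⊓ Cz(R) = ⊥)
include n hR h0

theorem comm_conj {r x y : G} (hr : r ∈ R) (hx : x ∈ S) (hy : y ∈ S) (e : x * y = y * x) :
    x * (r * y * r⁻¹) = r * y * r⁻¹ * x := by
  by_cases h1 : r = 1
  · simpa [h1] using e
  have k := (isF n hR h0 hr h1).comm_sigma_right ⟨x, hx⟩ ⟨y, hy⟩
  rw [show ⁅(⟨x, hx⟩ : S), (⟨y, hy⟩ : S)⁆ = 1 from
    commutatorElement_eq_one_iff_mul_comm.2 (Subtype.ext e), map_one, map_one] at k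
  exact congrArg Subtype.val (commutatorElement_eq_one_iff_mul_comm.1 k)

theorem nm_Cz (hD : D ≤ S) : R ≤ Nm(S ⊓ Cz(D)) := fun r hr =>
  mem_normalizer_of_conj_mem fun y hy => mi (conj_mem_of_mem_normalizer (n hr) hy.1)
    fun x hx => comm_conj n hR h0 hr (hD hx) hy.1 (hy.2 x hx)

theorem der_le_Cz : ⁅S, S⁆ ≤ Cz(S) := by
  obtain ⟨r, hr, h1⟩ := exists_ne_one_of_ne_bot (A := R) fun e => by simp [e] at hR
  exact commutator_le.2 fun z hz a ha y hy =>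
    congrArg Subtype.val ((isF n hR h0 hr h1).comm_central ⟨y, hy⟩ ⟨z, hz⟩ ⟨a, ha⟩).eq

theorem norm_eq {r x : G} (hr : r ∈ R) (h1 : r ≠ 1) (hx : x ∈ S) :
    x * (r * x * r⁻¹) * (r * (r * x * r⁻¹) * r⁻¹) = 1 :=
  congrArg Subtype.val ((isF n hR h0 hr h1).norm ⟨x, hx⟩)

end two

end CfH5.T3
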